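import Mathlib

/-!
Vectors over the field with three elements as pairs of bit masks packed in one number.
-/

set_option autoImplicit false

namespace CfsgLib.ThE8

/-- the low 248 bits -/
noncomputable def lowMask : ℕ := Nat.sub (Nat.pow 2 248) 1

/-- the positions with value one -/
noncomputable def lo (v : ℕ) : ℕ := Nat.land v lowMask

/-- the positions with value two -/
noncomputable def hi (v : ℕ) : ℕ :=
  Nat.xor (Nat.land (Nat.shiftRight v 248) lowMask) (Nat.land (Nat.land (Nat.shiftRight v 248) lowMask) (lo v))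

/-- the entry at a position -/
noncomputable def valN (v j : ℕ) : ℕ :=
  bif Nat.testBit v j then 1 else bif Nat.testBit v (j + 248) then 2 else 0

/-- two masks in one number -/
noncomputable def mk2 (a b : ℕ) : ℕ := Nat.lor a (Nat.shiftLeft b 248)

/-- the negative -/
noncomputable def negB (v : ℕ) : ℕ := mk2 (hi v) (lo v)

/-- the sum -/
noncomputable def addB (v w : ℕ) : ℕ :=
  let a := lo v
  let b := hi v
  let c := lo w
  let d := hi w
  let t := Nat.xor (Nat.lor a d) (Nat.lor b c)
  mk2 (Nat.xor (Nat.lor b d) t) (Nat.xor (Nat.lor a c) t)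

/-- a multiple -/
noncomputable def scB (k v : ℕ) : ℕ :=
  bif Nat.beq k 1 then v else bif Nat.beq k 2 then negB v else 0

theorem lo_bit (v j : ℕ) : (lo v).testBit j = (decide (j < 248) && v.testBit j) := by
  show (v &&& (2 ^ 248 - 1)).testBit j = _
  rw [Nat.and_two_pow_sub_one_eq_mod, Nat.testBit_mod_two_pow]

theorem hi_bit (v j : ℕ) :
    (hi v).testBit j = (decide (j < 248) && (v.testBit (j + 248) && !v.testBit j)) := by
  show ((v >>> 248 &&& (2 ^ 248 - 1)) ^^^ ((v >>> 248 &&& (2 ^ 248 - 1)) &&& lo v)).testBit j = _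
  rw [Nat.testBit_xor, Nat.testBit_and _ (lo v), lo_bit, Nat.and_two_pow_sub_one_eq_mod,
    Nat.testBit_mod_two_pow, Nat.testBit_shiftRight, Nat.add_comm 248 j]
  cases decide (j < 248) <;> cases v.testBit (j + 248) <;> cases v.testBit j <;> rfl

theorem mk2_low {a b j : ℕ} (hj : j < 248) : (mk2 a b).testBit j = a.testBit j := by
  show (a ||| b <<< 248).testBit j = _
  rw [Nat.testBit_or, Nat.testBit_shiftLeft]
  simp [show ¬ 248 ≤ j by omega]

theorem mk2_high {a b j : ℕ} (ha : a.testBit (j + 248) = false) :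
    (mk2 a b).testBit (j + 248) = b.testBit j := by
  show (a ||| b <<< 248).testBit (j + 248) = _
  rw [Nat.testBit_or, Nat.testBit_shiftLeft, ha]
  simp

theorem bit_table : ∀ a b c d : Bool,
    let b' := b && !a
    let d' := d && !c
    let t := Bool.xor (a || d') (b' || c)
    (((bif Bool.xor (b' || d') t then 1 else bif Bool.xor (a || c) t then 2 else 0 : ℕ) : ℕ) : ZMod 3) =
      (((bif a then 1 else bif b then 2 else 0 : ℕ) : ℕ) : ZMod 3) +
        (((bif c then 1 else bif d then 2 else 0 : ℕ) : ℕ) : ZMod 3) := by decide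

theorem valN_addB (v w : ℕ) {j : ℕ} (hj : j < 248) :
    (valN (addB v w) j : ZMod 3) = (valN v j : ZMod 3) + (valN w j : ZMod 3) := by
  have hbig : ¬ j + 248 < 248 := by omega
  have h1 : ∀ k, (Nat.xor (Nat.lor (hi v) (hi w))
      (Nat.xor (Nat.lor (lo v) (hi w)) (Nat.lor (hi v) (lo w)))).testBit k =
      Bool.xor ((hi v).testBit k || (hi w).testBit k)
        (Bool.xor ((lo v).testBit k || (hi w).testBit k) ((hi v).testBit k || (lo w).testBit k)) := fun k => by
    show ((hi v ||| hi w) ^^^ ((lo v ||| hi w) ^^^ (hi v ||| lo w))).testBit k = _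
    simp only [Nat.testBit_xor, Nat.testBit_or]
  have h2 : (Nat.xor (Nat.lor (lo v) (lo w))
      (Nat.xor (Nat.lor (lo v) (hi w)) (Nat.lor (hi v) (lo w)))).testBit j =
      Bool.xor ((lo v).testBit j || (lo w).testBit j)
        (Bool.xor ((lo v).testBit j || (hi w).testBit j) ((hi v).testBit j || (lo w).testBit j)) := by
    show ((lo v ||| lo w) ^^^ ((lo v ||| hi w) ^^^ (hi v ||| lo w))).testBit j = _
    simp only [Nat.testBit_xor, Nat.testBit_or]
  unfold valN addB
  dsimp only
  rw [mk2_low hj, mk2_high (by rw [h1]; simp [lo_bit, hi_bit, hbig]), h1, h2]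
  simp only [lo_bit, hi_bit, hj, decide_true, Bool.true_and]
  exact bit_table _ _ _ _

theorem valN_negB (v : ℕ) {j : ℕ} (hj : j < 248) : (valN (negB v) j : ZMod 3) = -(valN v j : ZMod 3) := by
  have hbig : ¬ j + 248 < 248 := by omega
  unfold valN negB
  rw [mk2_low hj, mk2_high (by simp [hi_bit, hbig])]
  simp only [lo_bit, hi_bit, hj, decide_true, Bool.true_and]
  cases v.testBit j <;> cases v.testBit (j + 248) <;> decide

theorem valN_scB {k : ℕ} (hk : k < 3) (v : ℕ) {j : ℕ} (hj : j < 248) :
    (valN (scB k v) j : ZMod 3) = (k : ZMod 3) * (valN v j : ZMod 3) := by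
  unfold scB
  interval_cases k
  · rw [show Nat.beq 0 1 = false from rfl, cond_false, show Nat.beq 0 2 = false from rfl, cond_false]
    simp [valN]
  · rw [show Nat.beq 1 1 = true from rfl]
    simp
  · rw [show Nat.beq 2 1 = false from rfl, cond_false, show Nat.beq 2 2 = true from rfl, cond_true,
      valN_negB v hj]
    generalize (valN v j : ZMod 3) = x
    revert x
    decide

end CfsgLib.ThE8
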