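import Cfsg.Agent.Lib.Chev.Tab

/-!
Root elements for letter 0, in chunks.
-/

set_option autoImplicit false
set_option maxRecDepth 100000

namespace CfsgLib.ThE8

/-- chunk 0 of the word for letter 0 -/
def rootW0_0 : List (ℕ × ℕ) := [
  (162, 2), (77, 1), (162, 2), (162, 2), (77, 1), (162, 2), (121, 2), (118, 1),
  (121, 2), (121, 2), (118, 1), (121, 2)]

end CfsgLib.ThE8
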