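import Cfsg.Agent.Lib.ThE8.CheckDefs
import Cfsg.Agent.Lib.ThE8.DataW1

/-!
The checks for letter 1.
-/

set_option autoImplicit false
set_option Elab.async false

namespace CfsgLib.ThE8

theorem check1_0 : chunkOK rootW1_0 basisT midT1_0 = true := by decide +kernel

theorem check1_1 : chunkOK rootW1_1 midT1_0 midT1_1 = true := by decide +kernel

theorem check1_2 : chunkOK rootW1_2 midT1_1 midT1_2 = true := by decide +kernel

theorem check1_3 : chunkOK rootW1_3 midT1_2 midT1_3 = true := by decide +kernel

theorem check1_4 : chunkOK rootW1_4 midT1_3 midT1_4 = true := by decide +kernel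

theorem check1_5 : lastOK rootW1_5 midT1_4 1 = true := by decide +kernel

end CfsgLib.ThE8
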