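import Cfsg.Agent.Lib.ThE8.CheckDefs
import Cfsg.Agent.Lib.ThE8.DataW2

/-!
The checks for letter 2.
-/

set_option autoImplicit false
set_option Elab.async false

namespace CfsgLib.ThE8

theorem check2_0 : lastOK rootW2_0 basisT 2 = true := by decide +kernel

end CfsgLib.ThE8
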