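import Cfsg.Agent.Lib.ThE8.CheckDefs
import Cfsg.Agent.Lib.ThE8.DataW3

/-!
The checks for letter 3.
-/

set_option autoImplicit false
set_option Elab.async false

namespace CfsgLib.ThE8

theorem check3_0 : chunkOK rootW3_0 basisT midT3_0 = true := by decide +kernel

theorem check3_1 : chunkOK rootW3_1 midT3_0 midT3_1 = true := by decide +kernel

theorem check3_2 : chunkOK rootW3_2 midT3_1 midT3_2 = true := by decide +kernel

theorem check3_3 : lastOK rootW3_3 midT3_2 3 = true := by decide +kernel

end CfsgLib.ThE8
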