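import Cfsg.Agent.Lib.ThE8.CheckDefs
import Cfsg.Agent.Lib.ThE8.DataW4

/-!
The checks for letter 4.
-/

set_option autoImplicit false
set_option Elab.async false

namespace CfsgLib.ThE8

theorem check4_0 : chunkOK rootW4_0 basisT midT4_0 = true := by decide +kernel

theorem check4_1 : chunkOK rootW4_1 midT4_0 midT4_1 = true := by decide +kernel

theorem check4_2 : chunkOK rootW4_2 midT4_1 midT4_2 = true := by decide +kernel

theorem check4_3 : chunkOK rootW4_3 midT4_2 midT4_3 = true := by decide +kernel

theorem check4_4 : lastOK rootW4_4 midT4_3 4 = true := by decide +kernel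

end CfsgLib.ThE8
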