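import Cfsg.Agent.Lib.ThE8.CheckDefs
import Cfsg.Agent.Lib.ThE8.DataW5

/-!
The checks for letter 5.
-/

set_option autoImplicit false
set_option Elab.async false

namespace CfsgLib.ThE8

theorem check5_0 : chunkOK rootW5_0 basisT midT5_0 = true := by decide +kernel

theorem check5_1 : chunkOK rootW5_1 midT5_0 midT5_1 = true := by decide +kernel

theorem check5_2 : chunkOK rootW5_2 midT5_1 midT5_2 = true := by decide +kernel

theorem check5_3 : chunkOK rootW5_3 midT5_2 midT5_3 = true := by decide +kernel

theorem check5_4 : chunkOK rootW5_4 midT5_3 midT5_4 = true := by decide +kernel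

theorem check5_5 : lastOK rootW5_5 midT5_4 6 = true := by decide +kernel

end CfsgLib.ThE8
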