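import Cfsg.Agent.Lib.ThE8.CheckDefs
import Cfsg.Agent.Lib.ThE8.DataW7

/-!
The checks for letter 7.
-/

set_option autoImplicit false
set_option Elab.async false

namespace CfsgLib.ThE8

theorem check7_0 : chunkOK rootW7_0 basisT midT7_0 = true := by decide +kernel

theorem check7_1 : chunkOK rootW7_1 midT7_0 midT7_1 = true := by decide +kernel

theorem check7_2 : chunkOK rootW7_2 midT7_1 midT7_2 = true := by decide +kernel

theorem check7_3 : chunkOK rootW7_3 midT7_2 midT7_3 = true := by decide +kernel

theorem check7_4 : chunkOK rootW7_4 midT7_3 midT7_4 = true := by decide +kernel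

theorem check7_5 : lastOK rootW7_5 midT7_4 8 = true := by decide +kernel

end CfsgLib.ThE8
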