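import Cfsg.Agent.Lib.ThE8.CheckDefs
import Cfsg.Agent.Lib.ThE8.DataW9

/-!
The checks for letter 9.
-/

set_option autoImplicit false
set_option Elab.async false

namespace CfsgLib.ThE8

theorem check9_0 : chunkOK rootW9_0 basisT midT9_0 = true := by decide +kernel

theorem check9_1 : chunkOK rootW9_1 midT9_0 midT9_1 = true := by decide +kernel

theorem check9_2 : chunkOK rootW9_2 midT9_1 midT9_2 = true := by decide +kernel

theorem check9_3 : chunkOK rootW9_3 midT9_2 midT9_3 = true := by decide +kernel

theorem check9_4 : lastOK rootW9_4 midT9_3 10 = true := by decide +kernel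

end CfsgLib.ThE8
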