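import Cfsg.Agent.Lib.ThE8.CheckB
import Cfsg.Agent.Lib.ThE8.Check0
import Cfsg.Agent.Lib.ThE8.Check1
import Cfsg.Agent.Lib.ThE8.Check2
import Cfsg.Agent.Lib.ThE8.Check3
import Cfsg.Agent.Lib.ThE8.Check4
import Cfsg.Agent.Lib.ThE8.Check5
import Cfsg.Agent.Lib.ThE8.Check7
import Cfsg.Agent.Lib.ThE8.Check9

/-!
The letters as words in root elements.
-/

set_option autoImplicit false

namespace CfsgLib.ThE8

open Cfsg.Lie CfsgLib.Chev CfsgLib.CosetEnum Matrix

theorem cols_all : ∀ r < 240, colOK r = true := by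
  intro r hr
  have key : ∀ b < 4, colsOK b = true := by
    intro b hb
    interval_cases b
    exacts [cols0, cols1, cols2, cols3]
  have h := allBelow_eq_true (key (r / 60) (by omega)) (r % 60) (Nat.mod_lt _ (by norm_num))
  rwa [Nat.div_add_mod] at h

/-- the rows of the first tree become those of the second under a word in root elements -/
def Reach (Y Z : RT) : Prop :=
  ∃ w : List (ℕ × ℕ), (∀ p ∈ w, p.1 < 240) ∧ rowsMat Z = (chevE8.wordMat K3 (wordK w))ᵀ * rowsMat Y

theorem Reach.refl (Y : RT) : Reach Y Y :=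
  ⟨[], by simp, by simp [wordK, ChevalleyDatum.wordMat]⟩

theorem Reach.trans {Y Z W : RT} (h : Reach Y Z) (h' : Reach Z W) : Reach Y W := by
  obtain ⟨u, hu, eu⟩ := h
  obtain ⟨v, hv, ev⟩ := h'
  refine ⟨u ++ v, fun p hp => (List.mem_append.1 hp).elim (hu p) (hv p), ?_⟩
  rw [ev, eu]
  simp only [wordK, ChevalleyDatum.wordMat, List.map_append, List.prod_append, Matrix.transpose_mul,
    Matrix.mul_assoc]

theorem wordOK_lt {w : List (ℕ × ℕ)} (h : wordOK w = true) : ∀ p ∈ w, p.1 < 240 := fun p hp => by
  have := List.all_eq_true.1 h p hp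
  rw [Bool.and_eq_true, Nat.blt_eq] at this
  exact this.1

theorem reach_chunk {w : List (ℕ × ℕ)} {Y Z : RT} (h : chunkOK w Y Z = true) : Reach Y Z := by
  rw [chunkOK, Bool.and_eq_true, runW_eq] at h
  refine ⟨w, wordOK_lt h.1, ?_⟩
  rw [← after_spec cols_all w Y (wordOK_lt h.1)]
  funext i j
  show (valN (Z.get (Chev.enc i)) j.val : K3) = (valN ((afterW w Y).get (Chev.enc i)) j.val : K3)
  rw [Nat.eq_of_beq_eq_true (allBelow_eq_true h.2 _ (enc_lt i))]

/-- the basis matrix -/
noncomputable def basisMat : Matrix chevE8.Idx (Fin 248) K3 := (ThRep.toMat 248 packP).submatrix idxEquiv id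

theorem basis_rows : rowsMat basisT = basisMat := by
  have h := basis_ok
  rw [basisOK, Bool.and_eq_true] at h
  exact rowsEq_spec h.1

/-- the inverse of a letter is a product of root elements -/
def Letter (g gi : ℕ) : Prop :=
  g < 11 ∧ gi < 11 ∧ ∃ w : List (ℕ × ℕ), (∀ p ∈ w, p.1 < 240) ∧
    (chevE8.wordMat K3 (wordK w))ᵀ * basisMat =
      (ThRep.toMat 248 (ThRep.mulP packP (ThRep.letMat gi))).submatrix idxEquiv id

theorem letter_of {w : List (ℕ × ℕ)} {Y : RT} {g gi : ℕ} (hY : Reach basisT Y) (h : lastOK w Y gi = true)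
    (hg : g < 11 := by norm_num) (hgi : gi < 11 := by norm_num) : Letter g gi := by
  rw [lastOK, Bool.and_eq_true, runW_eq] at h
  have hR : Reach Y (afterW w Y) := ⟨w, wordOK_lt h.1, after_spec cols_all w Y (wordOK_lt h.1)⟩
  obtain ⟨u, hu, eu⟩ := hY.trans hR
  refine ⟨hg, hgi, u, hu, ?_⟩
  rw [← basis_rows, ← eu]
  exact rowsEq_spec h.2

theorem letter0 : Letter 0 0 :=
  letter_of (Reach.refl basisT) check0_0

theorem letter1 : Letter 1 1 :=
  letter_of (((((reach_chunk check1_0).trans (reach_chunk check1_1)).trans (reach_chunk check1_2)).trans (reach_chunk check1_3)).trans (reach_chunk check1_4)) check1_5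

theorem letter2 : Letter 2 2 :=
  letter_of (Reach.refl basisT) check2_0

theorem letter3 : Letter 3 3 :=
  letter_of (((reach_chunk check3_0).trans (reach_chunk check3_1)).trans (reach_chunk check3_2)) check3_3

theorem letter4 : Letter 4 4 :=
  letter_of ((((reach_chunk check4_0).trans (reach_chunk check4_1)).trans (reach_chunk check4_2)).trans (reach_chunk check4_3)) check4_4

theorem letter5 : Letter 5 6 :=
  letter_of (((((reach_chunk check5_0).trans (reach_chunk check5_1)).trans (reach_chunk check5_2)).trans (reach_chunk check5_3)).trans (reach_chunk check5_4)) check5_5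

theorem letter7 : Letter 7 8 :=
  letter_of (((((reach_chunk check7_0).trans (reach_chunk check7_1)).trans (reach_chunk check7_2)).trans (reach_chunk check7_3)).trans (reach_chunk check7_4)) check7_5

theorem letter9 : Letter 9 10 :=
  letter_of ((((reach_chunk check9_0).trans (reach_chunk check9_1)).trans (reach_chunk check9_2)).trans (reach_chunk check9_3)) check9_4

end CfsgLib.ThE8
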