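import Cfsg.Agent.Lib.ThE8.CheckDefs

/-!
The checks of the columns and of the basis.
-/

set_option autoImplicit false
set_option Elab.async false

namespace CfsgLib.ThE8

theorem cols0 : colsOK 0 = true := by decide +kernel

theorem cols1 : colsOK 1 = true := by decide +kernel

theorem cols2 : colsOK 2 = true := by decide +kernel

theorem cols3 : colsOK 3 = true := by decide +kernel

theorem basis_ok : basisOK = true := by decide +kernel

end CfsgLib.ThE8
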