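import Cfsg.Agent.Lib.ThE8.Rows
import Cfsg.Agent.Lib.ThE8.DataP
import Cfsg.Agent.Lib.ThRep.Eval

/-!
The finite checks.
-/

set_option autoImplicit false

namespace CfsgLib.ThE8

open CfsgLib.Chev

/-- the root elements of a word are roots with parameters one or two -/
noncomputable def wordOK (w : List (ℕ × ℕ)) : Bool := w.all fun p => Nat.blt p.1 240 && Nat.blt p.2 3

/-- two trees have the same rows -/
noncomputable def treeEq (Y Z : RT) : Bool := allBelow 248 fun i => Nat.beq (Y.get i) (Z.get i)

/-- an inner chunk -/
noncomputable def chunkOK (w : List (ℕ × ℕ)) (Y Z : RT) : Bool := wordOK w && runW w Y fun A => treeEq A Z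

/-- the last chunk gives the letter -/
noncomputable def lastOK (w : List (ℕ × ℕ)) (Y : RT) (g : ℕ) : Bool :=
  wordOK w && runW w Y fun A => rowsEq A (ThRep.mulP packP (ThRep.letMat g))

/-- the basis in its two forms, with its inverse -/
noncomputable def basisOK : Bool :=
  rowsEq basisT packP && Nat.beq (ThRep.mulP packP packQ) ThRep.oneP

/-- a block of sixty roots -/
noncomputable def colsOK (b : ℕ) : Bool := allBelow 60 fun k => colOK (60 * b + k)

end CfsgLib.ThE8
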