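import Cfsg.Agent.Lib.ThE8.Chain
import Cfsg.Agent.Lib.ThPres.CentA
import Cfsg.Agent.Lib.Chev.Group

/-!
The presented Thompson group inside the Chevalley group of type E8 over the field with three elements.
-/

set_option autoImplicit false
set_option maxRecDepth 8000

namespace CfsgLib.ThE8

open Cfsg.Lie Cfsg.Spor CfsgLib.CosetEnum CfsgLib.ThPres CfsgLib.Chev Matrix

theorem pack_good : (ThRep.goodB packP && ThRep.goodB packQ) = true := by decide +kernel

attribute [local irreducible] packP packQ ThRep.toMat

/-- the change of basis -/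
noncomputable def basisU : ThRep.U248 where
  val := ThRep.toMat 248 packP
  inv := ThRep.toMat 248 packQ
  val_inv := by
    have hg := pack_good
    rw [Bool.and_eq_true] at hg
    have h := basis_ok
    rw [basisOK, Bool.and_eq_true] at h
    rw [← (ThRep.mulP_spec (ThRep.good_of_goodB hg.1) (ThRep.good_of_goodB hg.2)).2,
      Nat.eq_of_beq_eq_true h.2, ThRep.oneP_spec.2]
  inv_val := by
    rw [mul_eq_one_comm]
    have hg := pack_good
    rw [Bool.and_eq_true] at hg
    have h := basis_ok
    rw [basisOK, Bool.and_eq_true] at h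
    rw [← (ThRep.mulP_spec (ThRep.good_of_goodB hg.1) (ThRep.good_of_goodB hg.2)).2,
      Nat.eq_of_beq_eq_true h.2, ThRep.oneP_spec.2]

section Generic

variable {n m R : Type*} [Fintype n] [DecidableEq n] [Fintype m] [DecidableEq m] [CommRing R]

/-- renumber and transpose -/
def flipT (e : m ≃ n) (M : Matrix n n R) : Matrix m m R := (M.submatrix e e)ᵀ

omit [DecidableEq n] [DecidableEq m] in
theorem flipT_mul (e : m ≃ n) (M N : Matrix n n R) : flipT e (M * N) = flipT e N * flipT e M := by
  rw [flipT, flipT, flipT, ← Matrix.transpose_mul, Matrix.submatrix_mul_equiv]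

omit [Fintype n] [Fintype m] in
theorem flipT_one (e : m ≃ n) : flipT e (1 : Matrix n n R) = 1 := by
  rw [flipT, Matrix.submatrix_one_equiv, Matrix.transpose_one]

/-- the contragredient on a new basis -/
noncomputable def contraHom (e : m ≃ n) (b : GL n R) : GL n R →* GL m R where
  toFun X :=
    { val := flipT e (b * X⁻¹ * b⁻¹).val
      inv := flipT e (b * X * b⁻¹).val
      val_inv := by
        rw [← flipT_mul, ← Units.val_mul, show b * X * b⁻¹ * (b * X⁻¹ * b⁻¹) = 1 by group, Units.val_one, flipT_one]
      inv_val := by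
        rw [← flipT_mul, ← Units.val_mul, show b * X⁻¹ * b⁻¹ * (b * X * b⁻¹) = 1 by group, Units.val_one, flipT_one] }
  map_one' := by
    apply Units.ext
    show flipT e (b * 1⁻¹ * b⁻¹).val = 1
    rw [inv_one, mul_one, mul_inv_cancel, Units.val_one, flipT_one]
  map_mul' X Y := by
    apply Units.ext
    show flipT e (b * (X * Y)⁻¹ * b⁻¹).val = flipT e (b * X⁻¹ * b⁻¹).val * flipT e (b * Y⁻¹ * b⁻¹).val
    rw [← flipT_mul, ← Units.val_mul]
    congr 2
    group

theorem contraHom_injective (e : m ≃ n) (b : GL n R) : Function.Injective (contraHom e b) := by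
  intro X Y h
  have h1 := congrArg Units.val h
  change flipT e _ = flipT e _ at h1
  have h2 : b * X⁻¹ * b⁻¹ = b * Y⁻¹ * b⁻¹ := by
    refine Units.ext (Matrix.ext fun i j => ?_)
    have := congrFun (congrFun h1 (e.symm j)) (e.symm i)
    simpa [flipT] using this
  simpa using h2

theorem contraHom_val (e : m ≃ n) (b X : GL n R) (W : Matrix m m R)
    (h : Wᵀ * b.val.submatrix e id = (b.val * (X⁻¹).val).submatrix e id) :
    (contraHom e b X).val = W := by
  show flipT e (b * X⁻¹ * b⁻¹).val = W
  have h1 : b.val.submatrix e id * (b⁻¹).val.submatrix id e = 1 := by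
    rw [← Matrix.submatrix_mul _ _ _ id _ Function.bijective_id, ← Units.val_mul, mul_inv_cancel, Units.val_one,
      Matrix.submatrix_one_equiv]
  rw [flipT, Units.val_mul, Units.val_mul]
  apply Matrix.transpose_injective
  rw [Matrix.transpose_transpose, Matrix.submatrix_mul _ _ _ id _ Function.bijective_id, ← h, Matrix.mul_assoc,
    h1, Matrix.mul_one]

end Generic

/-- the map into matrices on a Chevalley basis -/
noncomputable def embHom : Th →* GL chevE8.Idx K3 := (contraHom idxEquiv basisU).comp ThRep.rho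

theorem emb_injective : Function.Injective embHom := (contraHom_injective _ _).comp rho_injective0

theorem word_mem {w : List (ℕ × ℕ)} (hw : ∀ p ∈ w, p.1 < 240) :
    ∃ u ∈ chevE8.group K3, (u : Matrix chevE8.Idx chevE8.Idx K3) = chevE8.wordMat K3 (wordK w) := by
  induction w with
  | nil => exact ⟨1, one_mem _, by simp [wordK, ChevalleyDatum.wordMat]⟩
  | cons p w ih =>
    obtain ⟨u, hu, eu⟩ := ih fun q hq => hw q (List.mem_cons_of_mem _ hq)
    refine ⟨X chevE8 p.1 (p.2 : K3) * u,
      mul_mem (certE8.X_mem_group (hw p List.mem_cons_self) _) hu, ?_⟩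
    rw [Units.val_mul, certE8.coe_X, eu]
    simp [wordK, ChevalleyDatum.wordMat]

theorem letter_mem {g gi : ℕ} (h : Letter g gi) (hgi : inv11 g = gi) :
    embHom (tg g) ∈ chevE8.group K3 := by
  obtain ⟨hg, hgl, w, hw, e⟩ := h
  obtain ⟨u, hu, eu⟩ := word_mem hw
  suffices hh : embHom (tg g) = u by rwa [hh]
  apply Units.ext
  rw [eu]
  refine contraHom_val _ _ _ _ ?_
  have hinv : (tg g)⁻¹ = tg gi := by rw [← hgi]; exact inv_eq_of_mul_eq_one_right (tg_inv g)
  have hX : ((ThRep.rho (tg g))⁻¹).val = ThRep.toMat 248 (ThRep.letMat gi) := by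
    rw [← map_inv, hinv]
    have h1 := (rho_word (w := [gi]) (by simpa using hgl)).2
    rw [prodW_single] at h1
    rw [h1]
    show ThRep.toMat 248 (ThRep.mat16 gi) = _
    rw [ThRep.mat16, if_pos hgl]
  have hg2 := pack_good
  rw [Bool.and_eq_true] at hg2
  rw [(ThRep.mulP_spec (ThRep.good_of_goodB hg2.1) (ThRep.good_let hgl)).2] at e
  rw [hX]
  exact e

theorem range_le : embHom.range ≤ chevE8.group K3 := by
  rw [MonoidHom.range_eq_map, ← PresentedGroup.closure_range_of, MonoidHom.map_closure, Subgroup.closure_le]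
  rintro x ⟨y, ⟨q, rfl⟩, rfl⟩
  have key : ∀ g, g < 11 → PresentedGroup.mk (coxRelators Th.edges ∪ {r | r ∈ Th.extra}) (ThRep.free16 g) =
      PresentedGroup.of q → embHom (tg g) ∈ chevE8.group K3 →
      embHom (PresentedGroup.of q) ∈ chevE8.group K3 := fun g hg e h => by rw [← e, ← tg_mk hg]; exact h
  cases q
  · exact key 0 (by norm_num) rfl (letter_mem letter0 rfl)
  · exact key 1 (by norm_num) rfl (letter_mem letter1 rfl)
  · exact key 2 (by norm_num) rfl (letter_mem letter2 rfl)
  · exact key 3 (by norm_num) rfl (letter_mem letter3 rfl)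
  · exact key 4 (by norm_num) rfl (letter_mem letter4 rfl)
  · exact key 5 (by norm_num) rfl (letter_mem letter5 rfl)
  · exact key 7 (by norm_num) rfl (letter_mem letter7 rfl)
  · exact key 9 (by norm_num) rfl (letter_mem letter9 rfl)

theorem embed_of {A B : Type*} [Group A] [Group B] (K : Subgroup B) (f : A →* B) (hi : Function.Injective f)
    (hr : f.range ≤ K) : ∃ g : A →* K, Function.Injective g :=
  ⟨f.codRestrict K fun x => hr ⟨x, rfl⟩, fun _ _ h => hi (congrArg Subtype.val h)⟩

/-- the embedding of the presented group -/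
theorem exists_embedding : ∃ f : Th →* chevE8.group K3, Function.Injective f :=
  embed_of _ embHom emb_injective range_le

end CfsgLib.ThE8
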