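import Cfsg.Agent.Lib.Chev.All
import Cfsg.Agent.Lib.ThRep.MulSpec
import Cfsg.Agent.Lib.ThE8.Bits
import Cfsg.Agent.Lib.ThE8.DataW

/-!
Root elements of type E8 acting on a tree of 248 coded rows.
-/

set_option autoImplicit false
set_option maxRecDepth 100000

namespace CfsgLib.ThE8

open Cfsg.Lie CfsgLib.Chev CfsgLib.CosetEnum Matrix

/-- the certified tables of type E8 -/
theorem agreesE8 : tabE8.Agrees chevE8 := certE8.agrees

/-- a column moved by a root element -/
noncomputable def moved (r i : ℕ) : Bool := Nat.testBit suppP (248 * r + i)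

/-- the moves of one root are the listed ones -/
noncomputable def colOK (r : ℕ) : Bool :=
  allBelow 248 fun i => (moved r i || (tabE8.col r i).tail.all fun q => Nat.beq (q.2.2 % 3).toNat 0) &&
    (tabE8.col r i).all fun q => Nat.blt q.1 248

/-- a coefficient as a number below three -/
noncomputable def coefN (c : ℤ) (d t : ℕ) : ℕ := ((c % 3).toNat * t ^ d) % 3

/-- a combination of rows -/
noncomputable def comb (Y : RT) (t : ℕ) : List (ℕ × ℕ × ℤ) → ℕ
  | [] => 0
  | q :: L => addB (scB (coefN q.2.2 q.2.1 t) (Y.get q.1)) (comb Y t L)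

/-- the new row -/
noncomputable def newRow (Y : RT) (r t i : ℕ) : ℕ :=
  bif moved r i then comb Y t (tabE8.col r i) else Y.get i

/-- a full tree -/
noncomputable def build : ℕ → (ℕ → ℕ) → RT
  | 0, f => .leaf (f 0)
  | d + 1, f => .node (build d fun k => f (2 * k)) (build d fun k => f (2 * k + 1))

/-- a full tree, evaluated -/
noncomputable def buildK : ℕ → (ℕ → ℕ) → (RT → Bool) → Bool
  | 0, f, k => strict (f 0) fun v => k (.leaf v)
  | d + 1, f, k => buildK d (fun i => f (2 * i)) fun a => buildK d (fun i => f (2 * i + 1)) fun b => k (.node a b)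

theorem buildK_eq : ∀ (d : ℕ) (f : ℕ → ℕ) (k : RT → Bool), buildK d f k = k (build d f)
  | 0, f, k => by rw [buildK, strict_eq, build]
  | d + 1, f, k => by rw [buildK, buildK_eq d, buildK_eq d, build]

theorem get_leaf (v i : ℕ) : (RT.leaf v).get i = v := rfl

theorem get_node (a b : RT) (i : ℕ) :
    (RT.node a b).get i = cond (Nat.beq (Nat.land i 1) 0) (a.get (Nat.shiftRight i 1)) (b.get (Nat.shiftRight i 1)) := rfl

theorem build_get : ∀ (d : ℕ) (f : ℕ → ℕ) (i : ℕ), i < 2 ^ d → (build d f).get i = f i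
  | 0, f, i, hi => by
    obtain rfl : i = 0 := by simpa using hi
    rw [build, get_leaf]
  | d + 1, f, i, hi => by
    have e1 : Nat.land i 1 = i % 2 := Nat.and_one_is_mod i
    have e2 : Nat.shiftRight i 1 = i / 2 := (Nat.shiftRight_eq_div_pow i 1).trans (by norm_num)
    have hlt : i / 2 < 2 ^ d := by
      rw [pow_succ'] at hi
      omega
    rw [build, get_node, e1, e2, build_get d _ _ hlt, build_get d _ _ hlt]
    rcases Nat.mod_two_eq_zero_or_one i with h | h <;> rw [h]
    · rw [show Nat.beq 0 0 = true from rfl, cond_true]; congr 1; omega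
    · rw [show Nat.beq 1 0 = false from rfl, cond_false]; congr 1; omega

/-- apply a word, first letter first -/
noncomputable def runW : List (ℕ × ℕ) → RT → (RT → Bool) → Bool
  | [], Y, k => k Y
  | p :: w, Y, k => buildK 8 (newRow Y p.1 p.2) fun Z => runW w Z k

/-- the tree after a word -/
noncomputable def afterW : List (ℕ × ℕ) → RT → RT
  | [], Y => Y
  | p :: w, Y => afterW w (build 8 (newRow Y p.1 p.2))

theorem runW_eq : ∀ (w : List (ℕ × ℕ)) (Y : RT) (k : RT → Bool), runW w Y k = k (afterW w Y)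
  | [], _, _ => rfl
  | p :: w, Y, k => by rw [runW, buildK_eq, runW_eq w, afterW]

/-- a number as an entry -/
abbrev K3 : Type := ZMod 3

/-- the matrix of a tree -/
noncomputable def rowsMat (Y : RT) : Matrix chevE8.Idx (Fin 248) K3 :=
  fun i j => (valN (Y.get (Chev.enc i)) j.val : K3)

theorem enc_lt (i : chevE8.Idx) : Chev.enc i < 248 := by
  rcases i with i | i
  · have : i.val < 8 := i.isLt
    show 240 + i.val < 248
    omega
  · have : i.val < 240 := i.isLt
    show i.val < 248
    omega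

/-- the coordinates numbered by the engine -/
noncomputable def idxEquiv : chevE8.Idx ≃ Fin 248 :=
  Equiv.ofBijective (fun i => ⟨Chev.enc i, enc_lt i⟩)
    ((Fintype.bijective_iff_injective_and_card _).2
      ⟨fun i j h => Chev.enc_injective (congrArg Fin.val h), by
        rw [Fintype.card_sum, Fintype.card_fin, Fintype.card_fin, Fintype.card_fin]; rfl⟩)

theorem idxEquiv_val (i : chevE8.Idx) : (idxEquiv i).val = Chev.enc i := rfl

theorem enc_symm {n : ℕ} (hn : n < 248) : Chev.enc (idxEquiv.symm ⟨n, hn⟩) = n := by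
  rw [← idxEquiv_val, Equiv.apply_symm_apply]

theorem sum_list {ι : Type*} [Fintype ι] (e : ι ≃ Fin 248) (n : ι → ℕ) (hn : ∀ k, n k = (e k).val)
    (L : List (ℕ × ℕ × ℤ)) (hL : ∀ q ∈ L, q.1 < 248) (c : ℕ × ℕ × ℤ → K3) (g : ℕ → K3) :
    (∑ k : ι, (L.map fun q => if q.1 = n k then c q else 0).sum * g (n k)) =
      (L.map fun q => c q * g q.1).sum := by
  induction L with
  | nil => simp
  | cons q L ih =>
    simp only [List.map_cons, List.sum_cons, add_mul, Finset.sum_add_distrib]
    rw [ih fun x hx => hL x (List.mem_cons_of_mem _ hx)]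
    refine congrArg (· + _) ?_
    have hq := hL q List.mem_cons_self
    rw [Finset.sum_eq_single (e.symm ⟨q.1, hq⟩)]
    · have h0 : n (e.symm ⟨q.1, hq⟩) = q.1 := by rw [hn, Equiv.apply_symm_apply]
      rw [h0, if_pos rfl]
    · intro k _ hk
      rw [if_neg, zero_mul]
      intro h
      apply hk
      rw [Equiv.eq_symm_apply]
      exact Fin.ext ((hn k).symm.trans h.symm)
    · simp

theorem coefN_eq (c : ℤ) (d t : ℕ) : (coefN c d t : K3) = (c : K3) * (t : K3) ^ d := by
  have h : (((c % 3).toNat : ℕ) : K3) = (c : K3) := by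
    rw [← Int.cast_natCast, Int.toNat_of_nonneg (Int.emod_nonneg _ (by norm_num))]
    exact ZMod.intCast_mod c 3
  rw [coefN, ZMod.natCast_mod, Nat.cast_mul, Nat.cast_pow, h]

theorem valN_comb (Y : RT) (t : ℕ) {j : ℕ} (hj : j < 248) : ∀ L : List (ℕ × ℕ × ℤ),
    (valN (comb Y t L) j : K3) = (L.map fun q => (q.2.2 : K3) * (t : K3) ^ q.2.1 * (valN (Y.get q.1) j : K3)).sum
  | [] => by simp [comb, valN]
  | q :: L => by
    rw [comb, valN_addB _ _ hj, valN_scB (show coefN q.2.2 q.2.1 t < 3 from Nat.mod_lt _ (by norm_num)) _ hj, valN_comb Y t hj L,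
      List.map_cons, List.sum_cons]
    congr 2
    exact coefN_eq _ _ _

theorem step_spec {r : ℕ} (hr : r < 240) (hc : colOK r = true) (Y : RT) (t : ℕ) :
    rowsMat (build 8 (newRow Y r t)) = (chevE8.x K3 r (t : K3))ᵀ * rowsMat Y := by
  funext i j
  rw [rowsMat, build_get 8 _ _ ((enc_lt i).trans (by norm_num)), Matrix.mul_apply]
  have hi := allBelow_eq_true hc _ (enc_lt i)
  rw [Bool.and_eq_true, Bool.or_eq_true] at hi
  obtain ⟨hm, hq⟩ := hi
  have hL : ∀ q ∈ tabE8.col r (Chev.enc i), q.1 < 248 := fun q h => by have := List.all_eq_true.1 hq q h; rwa [Nat.blt_eq] at this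
  have hx : (∑ k, (chevE8.x K3 r (t : K3))ᵀ i k * rowsMat Y k j) =
      ((tabE8.col r (Chev.enc i)).map fun q =>
        (q.2.2 : K3) * (t : K3) ^ q.2.1 * (valN (Y.get q.1) j.val : K3)).sum := by
    rw [← sum_list idxEquiv (fun k => Chev.enc k) (fun k => (idxEquiv_val k).symm) _ hL (fun q => (q.2.2 : K3) * (t : K3) ^ q.2.1) fun n => (valN (Y.get n) j.val : K3)]
    refine Finset.sum_congr rfl fun k _ => ?_
    rw [Matrix.transpose_apply, x_apply agreesE8 hr]
    rfl
  rw [hx]
  unfold newRow
  cases hmv : moved r (Chev.enc i) with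
  | true => rw [cond_true, valN_comb Y t j.isLt]
  | false =>
    rw [cond_false]
    have h1 := hm.resolve_left (by rw [hmv]; simp)
    obtain ⟨rest, hrest⟩ : ∃ rest, tabE8.col r (Chev.enc i) = (Chev.enc i, 0, 1) :: rest := ⟨_, rfl⟩
    rw [hrest, List.tail_cons, List.all_eq_true] at h1
    rw [hrest, List.map_cons, List.sum_cons, List.sum_eq_zero (l := rest.map _) ?_]
    · simp
    · intro x hx
      obtain ⟨q, hq', rfl⟩ := List.mem_map.1 hx
      have h0 := Nat.eq_of_beq_eq_true (h1 q hq')
      have hz : (q.2.2 : K3) = 0 := by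
        refine (ZMod.intCast_zmod_eq_zero_iff_dvd q.2.2 3).2 (Int.dvd_of_emod_eq_zero ?_)
        have := Int.emod_nonneg q.2.2 (show (3 : ℤ) ≠ 0 by norm_num)
        push_cast
        omega
      rw [hz, zero_mul, zero_mul]

/-- a word as root elements over the field -/
noncomputable def wordK (w : List (ℕ × ℕ)) : List (ℕ × K3) := w.map fun p => (p.1, (p.2 : K3))

theorem after_spec (hc : ∀ r < 240, colOK r = true) : ∀ (w : List (ℕ × ℕ)) (Y : RT), (∀ p ∈ w, p.1 < 240) →
    rowsMat (afterW w Y) = (chevE8.wordMat K3 (wordK w))ᵀ * rowsMat Y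
  | [], Y, _ => by simp [afterW, wordK, ChevalleyDatum.wordMat]
  | p :: w, Y, h => by
    have hp := h p List.mem_cons_self
    rw [afterW, after_spec hc w _ fun q hq => h q (List.mem_cons_of_mem _ hq), step_spec hp (hc _ hp)]
    simp only [wordK, ChevalleyDatum.wordMat, List.map_cons, List.prod_cons, Matrix.transpose_mul]
    rw [Matrix.mul_assoc]

/-- the rows agree with a packed matrix -/
noncomputable def rowsEq (Y : RT) (M : ℕ) : Bool :=
  strict M fun m => allBelow 248 fun i =>
    strict (Nat.land (Nat.shiftRight m (Nat.mul 2480 i)) ThRep.rowMask) fun row =>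
      allBelow 248 fun j => Nat.beq (valN (Y.get i) j) (Nat.land (Nat.shiftRight row (Nat.mul 10 j)) 1023)

attribute [local irreducible] ThRep.rowMask in
theorem rowsEq_spec {Y : RT} {M : ℕ} (h : rowsEq Y M = true) :
    rowsMat Y = (ThRep.toMat 248 M).submatrix idxEquiv id := by
  rw [rowsEq, strict_eq] at h
  funext i j
  have h1 := allBelow_eq_true h _ (enc_lt i)
  rw [strict_eq] at h1
  have h2 := Nat.eq_of_beq_eq_true (allBelow_eq_true h1 _ j.isLt)
  rw [rowsMat, h2]
  show _ = ((ThRep.lane M (248 * Chev.enc i + j.val) : ℕ) : K3)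
  congr 1
  have e : Nat.land (Nat.shiftRight M (Nat.mul 2480 (Chev.enc i))) ThRep.rowMask =
      ThRep.pack (fun j => ThRep.lane M (248 * Chev.enc i + j)) 248 := ThRep.row_eq M (Chev.enc i)
  rw [e]
  generalize hP : ThRep.pack (fun j => ThRep.lane M (248 * Chev.enc i + j)) 248 = P
  have hl : ThRep.lane P j.val = ThRep.lane M (248 * Chev.enc i + j.val) := by
    rw [← hP, ThRep.lane_pack (fun _ _ => ThRep.lane_lt _ _), if_pos j.isLt]
  rw [← hl]
  show (P >>> (10 * j.val)) &&& (2 ^ 10 - 1) = _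
  rw [Nat.and_two_pow_sub_one_eq_mod, Nat.shiftRight_eq_div_pow, pow_mul, ThRep.lane]
  norm_num

end CfsgLib.ThE8
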